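import Cfsg.Agent.Classical.Linear.Bases

/-!
# A product of two classes of `SL` is not one class up to scalars

For non-scalar `A`, `B` the traces `tr (A * B')`, `B'` conjugate to `B`, contain zero and a
non-zero value.
-/

set_option autoImplicit false

namespace CfsgLib.ClassProductPSL

open Matrix

variable {F : Type*} [Field F] {d : ℕ}

theorem exists_dot_separating {u v x : Fin d → F} (hx : x ∉ Submodule.span F ({u, v} : Set (Fin d → F))) :
    ∃ φ : Fin d → F, φ ⬝ᵥ u = 0 ∧ φ ⬝ᵥ v = 0 ∧ φ ⬝ᵥ x ≠ 0 := by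
  obtain ⟨f, hf, hp⟩ := Submodule.exists_dual_map_eq_bot_of_notMem hx inferInstance
  have hdot : ∀ y, (fun i => f (Pi.single i 1)) ⬝ᵥ y = f y := by
    intro y
    conv_rhs => rw [← Finset.univ_sum_single y]
    rw [map_sum]
    refine Finset.sum_congr rfl fun i _ => ?_
    conv_rhs => rw [show Pi.single i (y i) = y i • Pi.single i (1 : F) by simp [← Pi.single_smul]]
    rw [map_smul, smul_eq_mul, mul_comm]
  have hz : ∀ y ∈ Submodule.span F ({u, v} : Set (Fin d → F)), f y = 0 := fun y hy => by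
    have := Submodule.mem_map_of_mem (f := f) hy
    rwa [hp, Submodule.mem_bot] at this
  refine ⟨_, ?_, ?_, by rw [hdot]; exact hf⟩
  · rw [hdot]; exact hz u (Submodule.subset_span (Set.mem_insert _ _))
  · rw [hdot]; exact hz v (Submodule.subset_span (Set.mem_insert_of_mem _ rfl))

theorem exists_indep {A : Matrix (Fin d) (Fin d) F} (hA : ∀ c : F, A ≠ Matrix.scalar (Fin d) c) :
    ∃ v, LinearIndependent F ![v, A *ᵥ v] := by
  by_contra h
  push Not at h
  obtain ⟨c, hc⟩ := LinearMap.exists_eq_smul_id_of_forall_notLinearIndependent (f := A.mulVecLin)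
    fun v => by simpa using h v
  refine hA c (Matrix.ext fun j i => ?_)
  have := congrFun (LinearMap.congr_fun hc (Pi.single i 1)) j
  simpa [Matrix.scalar_apply, Matrix.diagonal_apply, Pi.single_apply] using this

/-- A transvection in `SL`. -/
def transv (v φ : Fin d → F) (h : φ ⬝ᵥ v = 0) : Matrix.SpecialLinearGroup (Fin d) F :=
  ⟨1 + vecMulVec v φ, by
    rw [vecMulVec_eq Unit, det_one_add_replicateCol_mul_replicateRow, h, add_zero]⟩

theorem transv_coe (v φ : Fin d → F) (h : φ ⬝ᵥ v = 0) :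
    (transv v φ h : Matrix (Fin d) (Fin d) F) = 1 + vecMulVec v φ := rfl

theorem transv_inv_coe (v φ : Fin d → F) (h : φ ⬝ᵥ v = 0) :
    (((transv v φ h)⁻¹ : Matrix.SpecialLinearGroup (Fin d) F) : Matrix (Fin d) (Fin d) F) =
      1 - vecMulVec v φ := by
  have h' : (-φ) ⬝ᵥ v = 0 := by rw [neg_dotProduct, h, neg_zero]
  have e : (transv v φ h)⁻¹ = transv v (-φ) h' := by
    refine inv_eq_of_mul_eq_one_right (Subtype.ext ?_)
    show (1 + vecMulVec v φ) * (1 + vecMulVec v (-φ)) = 1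
    rw [vecMulVec_neg, Matrix.mul_add, Matrix.add_mul, Matrix.add_mul, Matrix.one_mul, Matrix.one_mul,
      Matrix.mul_one, Matrix.mul_neg, vecMulVec_mul_vecMulVec, h, zero_smul, vecMulVec_zero]
    abel
  rw [e, transv_coe, vecMulVec_neg, sub_eq_add_neg]

theorem trace_mul_vecMulVec (A : Matrix (Fin d) (Fin d) F) (v φ : Fin d → F) :
    (A * vecMulVec v φ).trace = φ ⬝ᵥ (A *ᵥ v) := by
  rw [mul_vecMulVec, trace_vecMulVec, dotProduct_comm]

theorem trace_vecMulVec_mul (A : Matrix (Fin d) (Fin d) F) (v φ : Fin d → F) :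
    (vecMulVec v φ * A).trace = φ ⬝ᵥ (A *ᵥ v) := by
  rw [Matrix.trace_mul_comm, trace_mul_vecMulVec]

/-- The trace of `A * (t B t⁻¹)` along a one parameter family of transvections is affine. -/
theorem exists_zero_and_nonzero (A : Matrix (Fin d) (Fin d) F)
    (B : Matrix.SpecialLinearGroup (Fin d) F) (v φ : Fin d → F) (hv : φ ⬝ᵥ v = 0)
    (hm : φ ⬝ᵥ ((B : Matrix (Fin d) (Fin d) F) *ᵥ v) = 0 ∨ φ ⬝ᵥ (A *ᵥ v) = 0)
    (hl : φ ⬝ᵥ (((B : Matrix (Fin d) (Fin d) F) * A - A * (B : Matrix (Fin d) (Fin d) F)) *ᵥ v) ≠ 0) :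
    ∃ g h : Matrix.SpecialLinearGroup (Fin d) F,
      (A * ((g * B * g⁻¹ : Matrix.SpecialLinearGroup (Fin d) F) : Matrix (Fin d) (Fin d) F)).trace = 0 ∧
      (A * ((h * B * h⁻¹ : Matrix.SpecialLinearGroup (Fin d) F) : Matrix (Fin d) (Fin d) F)).trace ≠ 0 := by
  set Bm := (B : Matrix (Fin d) (Fin d) F) with hBm
  set l := φ ⬝ᵥ ((Bm * A - A * Bm) *ᵥ v) with hldef
  have hsv : ∀ s : F, φ ⬝ᵥ (s • v) = 0 := fun s => by rw [dotProduct_smul, hv, smul_zero]
  let g : F → Matrix.SpecialLinearGroup (Fin d) F := fun s => transv (s • v) φ (hsv s)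
  have hval : ∀ s : F, (A * ((g s * B * (g s)⁻¹ : Matrix.SpecialLinearGroup (Fin d) F) :
      Matrix (Fin d) (Fin d) F)).trace = (A * Bm).trace + s * l := by
    intro s
    rw [Matrix.SpecialLinearGroup.coe_mul, Matrix.SpecialLinearGroup.coe_mul, transv_inv_coe,
      transv_coe, ← hBm, smul_vecMulVec]
    set N := vecMulVec v φ with hN
    have h3 : (A * (N * Bm * N)).trace = 0 := by
      rw [hN, vecMulVec_mul, vecMulVec_mul_vecMulVec, mul_vecMulVec, trace_vecMulVec,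
        dotProduct_smul, smul_eq_mul, dotProduct_comm (A *ᵥ v), ← dotProduct_mulVec]
      rcases hm with h | h <;> rw [h] <;> simp
    have h1 : (A * (N * Bm)).trace = φ ⬝ᵥ ((Bm * A) *ᵥ v) := by
      rw [Matrix.trace_mul_comm, Matrix.mul_assoc, hN, trace_vecMulVec_mul]
    have h2 : (A * (Bm * N)).trace = φ ⬝ᵥ ((A * Bm) *ᵥ v) := by
      rw [← Matrix.mul_assoc, hN, trace_mul_vecMulVec]
    have e : A * ((1 + s • N) * Bm * (1 - s • N)) =
        A * Bm + s • (A * (N * Bm)) - s • (A * (Bm * N)) - (s * s) • (A * (N * Bm * N)) := by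
      simp only [Matrix.add_mul, Matrix.mul_sub, Matrix.mul_add, Matrix.one_mul, Matrix.mul_one,
        Matrix.smul_mul, Matrix.mul_smul, smul_smul, sub_eq_add_neg, Matrix.mul_assoc, smul_add,
        smul_neg]
      simp only [Matrix.mul_neg, Matrix.mul_smul, smul_smul, smul_neg]
      module
    rw [e, Matrix.trace_sub, Matrix.trace_sub, Matrix.trace_add, Matrix.trace_smul, Matrix.trace_smul,
      Matrix.trace_smul, h1, h2, h3, hldef, Matrix.sub_mulVec, dotProduct_sub]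
    simp only [smul_eq_mul]
    ring
  by_cases h0 : (A * Bm).trace = 0
  · refine ⟨g 0, g 1, by rw [hval, h0]; simp, ?_⟩
    rw [hval, h0, zero_add, one_mul]; exact hl
  · refine ⟨g (-(A * Bm).trace / l), g 0, ?_, by rw [hval, zero_mul, add_zero]; exact h0⟩
    rw [hval, div_mul_cancel₀ _ hl, add_neg_cancel]

theorem exists_traces (hd : 3 ≤ d) {A B : Matrix.SpecialLinearGroup (Fin d) F}
    (hA : ∀ c : F, (A : Matrix (Fin d) (Fin d) F) ≠ Matrix.scalar (Fin d) c)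
    (hB : ∀ c : F, (B : Matrix (Fin d) (Fin d) F) ≠ Matrix.scalar (Fin d) c) :
    ∃ g h : Matrix.SpecialLinearGroup (Fin d) F,
      ((A : Matrix (Fin d) (Fin d) F) *
        ((g * B * g⁻¹ : Matrix.SpecialLinearGroup (Fin d) F) : Matrix (Fin d) (Fin d) F)).trace = 0 ∧
      ((A : Matrix (Fin d) (Fin d) F) *
        ((h * B * h⁻¹ : Matrix.SpecialLinearGroup (Fin d) F) : Matrix (Fin d) (Fin d) F)).trace ≠ 0 := by
  set Am := (A : Matrix (Fin d) (Fin d) F) with hAm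
  obtain ⟨v, hv⟩ := exists_indep hA
  obtain ⟨v₀, hv₀⟩ := exists_indep hB
  obtain ⟨w, hw⟩ : ∃ w, w ∉ Submodule.span F ({v, Am *ᵥ v} : Set (Fin d → F)) := by
    by_contra h
    push Not at h
    have h1 : Submodule.span F ({v, Am *ᵥ v} : Set (Fin d → F)) = ⊤ :=
      Submodule.eq_top_iff'.2 h
    have h2 : Module.finrank F (Submodule.span F (Set.range ![v, Am *ᵥ v])) ≤ 2 :=
      (finrank_range_le_card _).trans_eq (Fintype.card_fin 2)
    rw [show Set.range ![v, Am *ᵥ v] = ({v, Am *ᵥ v} : Set (Fin d → F)) by simp [Set.pair_comm], h1, finrank_top,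
      Module.finrank_fin_fun] at h2
    omega
  have hv0 : v ≠ 0 := hv.ne_zero 0
  have hwv : LinearIndependent F ![v, w] := by
    rw [LinearIndependent.pair_iff' hv0]
    intro c hc
    exact hw (hc ▸ Submodule.smul_mem _ c (Submodule.subset_span (Set.mem_insert _ _)))
  obtain ⟨g₀, hg₀⟩ := CfsgLib.Classical.Linear.exists_sl_map_family (κ := Fin 2)
    (by simp; omega) hv₀ hwv
  have e0 : (g₀ : Matrix (Fin d) (Fin d) F) *ᵥ v₀ = v := hg₀ 0
  have e1 : (g₀ : Matrix (Fin d) (Fin d) F) *ᵥ ((B : Matrix (Fin d) (Fin d) F) *ᵥ v₀) = w := hg₀ 1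
  set B₁ := g₀ * B * g₀⁻¹ with hB₁
  have hB₁v : (B₁ : Matrix (Fin d) (Fin d) F) *ᵥ v = w := by
    have hcan : (B₁ : Matrix (Fin d) (Fin d) F) * (g₀ : Matrix (Fin d) (Fin d) F) =
        (g₀ : Matrix (Fin d) (Fin d) F) * (B : Matrix (Fin d) (Fin d) F) :=
      (congrArg Subtype.val (inv_mul_cancel_right (g₀ * B) g₀) :)
    rw [← e0, Matrix.mulVec_mulVec, hcan, ← Matrix.mulVec_mulVec, e1]
  -- `ψ` kills `v` and `w` and is one at `A v`
  have hAv : Am *ᵥ v ∉ Submodule.span F ({v, w} : Set (Fin d → F)) := by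
    intro h
    obtain ⟨a, b, hab⟩ := Submodule.mem_span_pair.1 h
    by_cases hb : b = 0
    · rw [hb, zero_smul, add_zero] at hab
      exact (LinearIndependent.pair_iff' hv0).1 hv a hab
    · refine hw ?_
      have : w = b⁻¹ • (Am *ᵥ v - a • v) := by
        rw [← hab, add_sub_cancel_left, smul_smul, inv_mul_cancel₀ hb, one_smul]
      rw [this]
      exact Submodule.smul_mem _ _ (Submodule.sub_mem _
        (Submodule.subset_span (Set.mem_insert_of_mem _ rfl))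
        (Submodule.smul_mem _ _ (Submodule.subset_span (Set.mem_insert _ _))))
  obtain ⟨ψ₀, hψv₀, hψw₀, hψA₀⟩ := exists_dot_separating hAv
  set ψ := (ψ₀ ⬝ᵥ (Am *ᵥ v))⁻¹ • ψ₀ with hψ
  have hψv : ψ ⬝ᵥ v = 0 := by rw [hψ, smul_dotProduct, hψv₀, smul_zero]
  have hψw : ψ ⬝ᵥ w = 0 := by rw [hψ, smul_dotProduct, hψw₀, smul_zero]
  have hψA : ψ ⬝ᵥ (Am *ᵥ v) = 1 := by
    rw [hψ, smul_dotProduct, smul_eq_mul, inv_mul_cancel₀ hψA₀]
  set t := transv v ψ hψv
  set B₂ := t * B₁ * t⁻¹ with hB₂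
  have htv : ∀ x, (1 - vecMulVec v ψ) *ᵥ x = x - (ψ ⬝ᵥ x) • v := fun x => by
    rw [Matrix.sub_mulVec, Matrix.one_mulVec, vecMulVec_mulVec]; simp
  have htv' : ∀ x, (1 + vecMulVec v ψ) *ᵥ x = x + (ψ ⬝ᵥ x) • v := fun x => by
    rw [Matrix.add_mulVec, Matrix.one_mulVec, vecMulVec_mulVec]; simp
  have hB₂x : ∀ x, (B₂ : Matrix (Fin d) (Fin d) F) *ᵥ x =
      (1 + vecMulVec v ψ) *ᵥ ((B₁ : Matrix (Fin d) (Fin d) F) *ᵥ ((1 - vecMulVec v ψ) *ᵥ x)) :=
    fun x => by
      rw [hB₂, Matrix.SpecialLinearGroup.coe_mul, Matrix.SpecialLinearGroup.coe_mul, transv_inv_coe,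
        transv_coe, Matrix.mulVec_mulVec, Matrix.mulVec_mulVec]
  have hB₂v : (B₂ : Matrix (Fin d) (Fin d) F) *ᵥ v = w := by
    rw [hB₂x, htv, hψv, zero_smul, sub_zero, hB₁v, htv', hψw, zero_smul, add_zero]
  set z := (B₁ : Matrix (Fin d) (Fin d) F) *ᵥ (Am *ᵥ v) with hz
  have hB₂A : (B₂ : Matrix (Fin d) (Fin d) F) *ᵥ (Am *ᵥ v) = z - w + (ψ ⬝ᵥ z) • v := by
    rw [hB₂x, htv, hψA, one_smul, Matrix.mulVec_sub, hB₁v, ← hz, htv', dotProduct_sub, hψw, sub_zero]
  obtain ⟨B', ⟨g', hg'⟩, hB'v, hC⟩ : ∃ B' : Matrix.SpecialLinearGroup (Fin d) F,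
      (∃ g, B' = g * B * g⁻¹) ∧ (B' : Matrix (Fin d) (Fin d) F) *ᵥ v = w ∧
      ((B' : Matrix (Fin d) (Fin d) F) * Am - Am * (B' : Matrix (Fin d) (Fin d) F)) *ᵥ v ∉
        Submodule.span F ({v} : Set (Fin d → F)) := by
    by_cases h1 : ((B₁ : Matrix (Fin d) (Fin d) F) * Am - Am * (B₁ : Matrix (Fin d) (Fin d) F)) *ᵥ v ∈
        Submodule.span F ({v} : Set (Fin d → F))
    · refine ⟨B₂, ⟨t * g₀, by rw [hB₂, hB₁]; group⟩, hB₂v, fun h2 => hw ?_⟩
      rw [Matrix.sub_mulVec, ← Matrix.mulVec_mulVec, ← Matrix.mulVec_mulVec, hB₁v, ← hz] at h1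
      rw [Matrix.sub_mulVec, ← Matrix.mulVec_mulVec, ← Matrix.mulVec_mulVec, hB₂v, hB₂A] at h2
      have hsp : ({v} : Set (Fin d → F)) ⊆ {v, Am *ᵥ v} := by simp
      have e : w = (z - Am *ᵥ w) - (z - w + (ψ ⬝ᵥ z) • v - Am *ᵥ w) + (ψ ⬝ᵥ z) • v := by abel
      rw [e]
      exact Submodule.add_mem _ (Submodule.span_mono hsp (Submodule.sub_mem _ h1 h2))
        (Submodule.smul_mem _ _ (Submodule.subset_span (Set.mem_insert _ _)))
    · exact ⟨B₁, ⟨g₀, rfl⟩, hB₁v, h1⟩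
  set C := ((B' : Matrix (Fin d) (Fin d) F) * Am - Am * (B' : Matrix (Fin d) (Fin d) F)) *ᵥ v with hCdef
  have key : ∃ φ, φ ⬝ᵥ v = 0 ∧ (φ ⬝ᵥ ((B' : Matrix (Fin d) (Fin d) F) *ᵥ v) = 0 ∨
      φ ⬝ᵥ (Am *ᵥ v) = 0) ∧ φ ⬝ᵥ C ≠ 0 := by
    by_cases h1 : C ∈ Submodule.span F ({v, w} : Set (Fin d → F))
    · by_cases h2 : C ∈ Submodule.span F ({v, Am *ᵥ v} : Set (Fin d → F))
      · exfalso
        refine hC ?_
        obtain ⟨a, b, hab⟩ := Submodule.mem_span_pair.1 h1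
        obtain ⟨a', b', hab'⟩ := Submodule.mem_span_pair.1 h2
        by_cases hb : b = 0
        · rw [← hab, hb, zero_smul, add_zero]
          exact Submodule.smul_mem _ _ (Submodule.mem_span_singleton_self v)
        · exfalso
          refine hw ?_
          have : w = b⁻¹ • (C - a • v) := by
            rw [← hab, add_sub_cancel_left, smul_smul, inv_mul_cancel₀ hb, one_smul]
          rw [this]
          exact Submodule.smul_mem _ _ (Submodule.sub_mem _ h2
            (Submodule.smul_mem _ _ (Submodule.subset_span (Set.mem_insert _ _))))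
      · obtain ⟨φ, h1, h2, h3⟩ := exists_dot_separating h2
        exact ⟨φ, h1, Or.inr h2, h3⟩
    · obtain ⟨φ, h1, h2, h3⟩ := exists_dot_separating h1
      exact ⟨φ, h1, Or.inl (by rw [hB'v]; exact h2), h3⟩
  obtain ⟨φ, hφv, hφm, hφl⟩ := key
  obtain ⟨a, b, ha, hb⟩ := exists_zero_and_nonzero Am B' v φ hφv hφm hφl
  refine ⟨a * g', b * g', ?_, ?_⟩
  · rwa [show a * g' * B * (a * g')⁻¹ = a * B' * a⁻¹ by rw [hg']; group]
  · rwa [show b * g' * B * (b * g')⁻¹ = b * B' * b⁻¹ by rw [hg']; group]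

theorem not_scalar_of_mk_ne_one {a : Matrix.SpecialLinearGroup (Fin d) F}
    (ha : (QuotientGroup.mk a : Matrix.ProjectiveSpecialLinearGroup (Fin d) F) ≠ 1) (c : F) :
    (a : Matrix (Fin d) (Fin d) F) ≠ Matrix.scalar (Fin d) c := by
  intro h
  refine ha ((QuotientGroup.eq_one_iff _).2 (Subgroup.mem_center_iff.2 fun B => Subtype.ext ?_))
  show (B : Matrix (Fin d) (Fin d) F) * (a : Matrix (Fin d) (Fin d) F) =
    (a : Matrix (Fin d) (Fin d) F) * (B : Matrix (Fin d) (Fin d) F)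
  rw [h]
  exact ((Matrix.scalar_commute c (fun r => Commute.all _ r) _).eq).symm

/-- In `PSL`, some product of conjugates is not conjugate to `a * b`. -/
theorem not_single_class (hd : 3 ≤ d) (a b : Matrix.ProjectiveSpecialLinearGroup (Fin d) F)
    (ha : a ≠ 1) (hb : b ≠ 1) :
    ∃ g h : Matrix.ProjectiveSpecialLinearGroup (Fin d) F,
      ¬ IsConj (a * b) (g * a * g⁻¹ * (h * b * h⁻¹)) := by
  obtain ⟨A, rfl⟩ := QuotientGroup.mk_surjective a
  obtain ⟨B, rfl⟩ := QuotientGroup.mk_surjective b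
  obtain ⟨g, h, hg, hh⟩ := exists_traces hd (not_scalar_of_mk_ne_one ha) (not_scalar_of_mk_ne_one hb)
  by_contra hne
  push Not at hne
  have key : ∀ x : Matrix.SpecialLinearGroup (Fin d) F, ∃ c : F, c ≠ 0 ∧
      ((A : Matrix (Fin d) (Fin d) F) *
        ((x * B * x⁻¹ : Matrix.SpecialLinearGroup (Fin d) F) : Matrix (Fin d) (Fin d) F)).trace =
      c * ((A : Matrix (Fin d) (Fin d) F) * (B : Matrix (Fin d) (Fin d) F)).trace := by
    intro x
    obtain ⟨k, hk⟩ := isConj_iff.1 (hne 1 (QuotientGroup.mk x))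
    obtain ⟨k, rfl⟩ := QuotientGroup.mk_surjective k
    rw [one_mul, inv_one, mul_one] at hk
    simp only [← QuotientGroup.mk_mul, ← QuotientGroup.mk_inv, QuotientGroup.eq] at hk
    obtain ⟨c, hc, hc'⟩ := Matrix.SpecialLinearGroup.mem_center_iff.1 hk
    have hc0 : c ≠ 0 := by
      intro h0
      rw [h0, zero_pow (by simp; omega)] at hc
      exact zero_ne_one hc
    refine ⟨c, hc0, ?_⟩
    have e : A * (x * B * x⁻¹) = (k * (A * B) * k⁻¹) * ((k * (A * B) * k⁻¹)⁻¹ * (A * (x * B * x⁻¹))) := by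
      group
    show ((A * (x * B * x⁻¹) : Matrix.SpecialLinearGroup (Fin d) F) : Matrix (Fin d) (Fin d) F).trace =
      c * ((A * B : Matrix.SpecialLinearGroup (Fin d) F) : Matrix (Fin d) (Fin d) F).trace
    have hconj : ((k * (A * B) * k⁻¹ : Matrix.SpecialLinearGroup (Fin d) F) :
        Matrix (Fin d) (Fin d) F).trace =
        ((A * B : Matrix.SpecialLinearGroup (Fin d) F) : Matrix (Fin d) (Fin d) F).trace := by
      have h1 : ∀ M N : Matrix.SpecialLinearGroup (Fin d) F,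
          ((M * N : Matrix.SpecialLinearGroup (Fin d) F) : Matrix (Fin d) (Fin d) F).trace =
          ((N * M : Matrix.SpecialLinearGroup (Fin d) F) : Matrix (Fin d) (Fin d) F).trace :=
        fun M N => Matrix.trace_mul_comm _ _
      rw [h1, ← mul_assoc, inv_mul_cancel, one_mul]
    rw [e]
    show (((k * (A * B) * k⁻¹ : Matrix.SpecialLinearGroup (Fin d) F) : Matrix (Fin d) (Fin d) F) *
      (((k * (A * B) * k⁻¹)⁻¹ * (A * (x * B * x⁻¹)) : Matrix.SpecialLinearGroup (Fin d) F) :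
        Matrix (Fin d) (Fin d) F)).trace = _
    rw [← hc', show (Matrix.scalar (Fin d) c) = c • (1 : Matrix (Fin d) (Fin d) F) from
      (Matrix.smul_one_eq_diagonal c).symm, Matrix.mul_smul, Matrix.mul_one, Matrix.trace_smul,
      hconj, smul_eq_mul]
  obtain ⟨c, hc, e⟩ := key g
  obtain ⟨c', -, e'⟩ := key h
  rw [hg] at e
  rw [(mul_eq_zero.1 e.symm).resolve_left hc, mul_zero] at e'
  exact hh e'

end CfsgLib.ClassProductPSL
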